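import Groth.Agent.SemiFact.K486.SplitGen

/-!
# The generic fibre of a nodal curve over a strictly henselian domain has split singularities: main theorem
-/

set_option autoImplicit false
universe u

open CategoryTheory CategoryTheory.Limits AlgebraicGeometry IsLocalRing

namespace K486.SplitMain

open Groth.Agent.CurvesB.StalkSemilinear Groth.Agent.Models.NodeRing Groth.Agent.Models.NodeNodal K486.SplitGen

theorem exists_closed_specialization {R : Type u} [CommRing R] [IsLocalRing R] {C : Scheme.{u}}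
    (f : C ⟶ Spec (CommRingCat.of R)) [IsProper f] (x : C) :
    ∃ c : C, x ⤳ c ∧ IsClosed ({c} : Set C) ∧ f c = closedPoint R := by
  have hc : CompactSpace C := QuasiCompact.compactSpace_of_compactSpace f
  obtain ⟨c, hc1, hc2⟩ := (isClosed_closure (s := ({x} : Set C))).exists_closed_singleton ⟨x, subset_closure rfl⟩
  refine ⟨c, specializes_iff_mem_closure.2 hc1, hc2, ?_⟩
  have h1 : IsClosed (f '' {c}) := f.isClosedMap _ hc2
  rw [Set.image_singleton] at h1
  have h2 : (f c).asIdeal.IsMaximal := (PrimeSpectrum.isClosed_singleton_iff_isMaximal (f c)).1 h1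
  exact PrimeSpectrum.ext (IsLocalRing.eq_maximalIdeal h2)

theorem isNode_of_notMem_smoothLocus {S C : Scheme.{u}} (f : C ⟶ S) (hf : Curv2.IsNodalFamily f)
    [LocallyOfFinitePresentation f] (c : C) (hc : IsClosed ({c} : Set C)) (hs : c ∉ f.smoothLocus) :
    @Curv2.IsNode (S.residueField (f.base c)) _ (f.fiber (f.base c))
      ⟨f.fiberToSpecResidueField (f.base c)⟩ (f.asFiber c) := by
  have hflat : Flat f := hf.1
  have h1 := (hf.2.2 (f c)).2 (f.asFiber c) (by
    have h2 : ({f.asFiber c} : Set (f.fiber (f c))) = (f.fiberι (f c)) ⁻¹' {c} := by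
      ext z
      simp only [Set.mem_singleton_iff, Set.mem_preimage]
      constructor
      · rintro rfl; exact f.fiberι_asFiber c
      · intro h
        apply (f.fiberι (f c)).isEmbedding.injective
        rw [h, f.fiberι_asFiber]
    rw [h2]
    exact hc.preimage (f.fiberι (f c)).continuous)
  rcases h1 with ⟨V, hV, hVs⟩ | h1
  · exfalso
    have hlfp : LocallyOfFinitePresentation (f.fiberToSpecResidueField (f.base c)) :=
      MorphismProperty.pullback_snd _ _ inferInstance
    refine hs ((Groth.Agent.S2156.result f c).2 ⟨Flat.stalkMap f c, ?_⟩)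
    have hVs' : Smooth (V.ι ≫ f.fiberToSpecResidueField (f.base c)) := hVs
    have h3 := Scheme.Hom.preimage_smoothLocus_eq V.ι (f.fiberToSpecResidueField (f.base c))
    rw [Scheme.Hom.smoothLocus_eq_top (V.ι ≫ f.fiberToSpecResidueField (f.base c))] at h3
    have h4 : (⟨f.asFiber c, hV⟩ : V) ∈ V.ι ⁻¹ᵁ (f.fiberToSpecResidueField (f.base c)).smoothLocus := by
      rw [h3]; trivial
    exact h4
  · exact h1

variable {R : Type u} [CommRing R] [IsDomain R] [HenselianLocalRing R] [IsSepClosed (ResidueField R)]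
  {C : Scheme.{u}} (f : C ⟶ Spec (CommRingCat.of R)) [IsProper f]

omit [HenselianLocalRing R] [IsSepClosed (ResidueField R)] in
theorem genPt_apply (q : Spec (CommRingCat.of (FractionRing R))) :
    (Neron.genPt R q).asIdeal = ⊥ := by
  have h1 : q.asIdeal = ⊥ := Ideal.eq_bot_of_prime q.asIdeal
  have h2 : (Neron.genPt R q).asIdeal = q.asIdeal.comap (algebraMap R (FractionRing R)) := rfl
  rw [h2, h1]
  exact Ideal.comap_bot_of_injective _ (IsFractionRing.injective R (FractionRing R))

/-- A section through the non-smooth point, in an étale chart. -/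
theorem exists_local_section (hf : Curv2.IsNodalFamily f) [LocallyOfFinitePresentation f] (x : C)
    (hx : (f x).asIdeal = ⊥) (hs : x ∉ f.smoothLocus) :
    ∃ (a : R) (ha : a = 0) (U : Scheme.{u}) (e : U ⟶ C) (_ : Etale e)
      (g : U ⟶ Spec (CommRingCat.of (W R a))) (_ : Etale g) (τ : Spec (CommRingCat.of R) ⟶ U)
      (u : U), g ≫ Spec.map (CommRingCat.ofHom (algebraMap R (W R a))) = e ≫ f ∧ τ ≫ g = zsS R ha ∧
      e u = x ∧ τ (⟨⊥, Ideal.isPrime_bot⟩ : PrimeSpectrum R) = u ∧
      uu R a ∈ (g u).asIdeal ∧ vv R a ∈ (g u).asIdeal := by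
  obtain ⟨c, hxc, hcc, hfc⟩ := exists_closed_specialization f x
  have hcs : c ∉ f.smoothLocus := fun h => hs (hxc.mem_open f.smoothLocus.isOpen h)
  have hsh : EtCoh.IsStrictlyHenselianLocalRing R := ⟨inferInstance, inferInstance⟩
  obtain ⟨a, U, e, he, u0, hu0, g, hg, hw⟩ := StrChart.exists_chart hsh f hf c hfc
    (isNode_of_notMem_smoothLocus f hf c hcc hcs)
  obtain ⟨u1, hu1, hu1x⟩ : ∃ u1 : U, u1 ⤳ u0 ∧ e u1 = x := by
    have h1 := Flat.generalizingMap e
    rw [← hu0] at hxc
    exact h1 hxc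
  have hs1 : e u1 ∉ f.smoothLocus := by rw [hu1x]; exact hs
  have huu := uu_mem f e g hw u1 hs1
  have hvv := vv_mem f e g hw u1 hs1
  have hstr1 : Spec.map (CommRingCat.ofHom (algebraMap R (W R a))) (g u1) = f x := by
    rw [← Scheme.Hom.comp_apply, hw, Scheme.Hom.comp_apply, hu1x]
  have ha : a = 0 := by
    have h1 : algebraMap R (W R a) a ∈ (g u1).asIdeal := by
      rw [← uu_mul_vv]; exact Ideal.mul_mem_right _ _ huu
    have h2 : a ∈ (Spec.map (CommRingCat.ofHom (algebraMap R (W R a))) (g u1)).asIdeal := h1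
    rw [hstr1, hx] at h2
    exact h2
  have hle : (g u1).asIdeal ≤ (g u0).asIdeal := by
    have h1 : g u1 ⤳ g u0 := hu1.map g.continuous
    exact (PrimeSpectrum.le_iff_specializes _ _).2 h1
  have hg1 : zsS R ha (f x) = g u1 := by
    rw [← hstr1]; exact zsS_apply R ha (g u1) huu hvv
  have hg0 : zsS R ha (closedPoint R) = g u0 := by
    have h1 : Spec.map (CommRingCat.ofHom (algebraMap R (W R a))) (g u0) = closedPoint R := by
      rw [← Scheme.Hom.comp_apply, hw, Scheme.Hom.comp_apply, hu0, hfc]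
    rw [← h1]
    exact zsS_apply R ha (g u0) (hle huu) (hle hvv)
  have hci := zsS_closedImmersion R ha
  obtain ⟨t0, ht0, ht0'⟩ := Scheme.Pullback.exists_preimage_pullback (f := g) (g := zsS R ha) u0 _ hg0.symm
  obtain ⟨t1, ht1, ht1'⟩ := Scheme.Pullback.exists_preimage_pullback (f := g) (g := zsS R ha) u1 _ hg1.symm
  have hci2 : IsClosedImmersion (pullback.fst g (zsS R ha)) := inferInstance
  have ht : t1 ⤳ t0 := by
    rw [← (pullback.fst g (zsS R ha)).isClosedEmbedding.isInducing.specializes_iff, ht0, ht1]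
    exact hu1
  have het : Etale (pullback.snd g (zsS R ha)) := inferInstance
  obtain ⟨σ, hσ, hσ0⟩ := StrChart.exists_section hsh (pullback.snd g (zsS R ha)) t0 ht0'
  have hσo : IsOpenImmersion σ := K140.CoupleSec.isOpenImmersion_section _ σ hσ
  obtain ⟨z, hz⟩ : t1 ∈ Set.range σ := by
    have h1 : IsOpen (Set.range σ) := σ.isOpenEmbedding.isOpen_range
    exact ht.mem_open h1 ⟨_, hσ0⟩
  have hzx : z = f x := by
    rw [← ht1', ← hz, ← Scheme.Hom.comp_apply, hσ]
    rfl
  refine ⟨a, ha, U, e, he, g, hg, σ ≫ pullback.fst g (zsS R ha), u1, hw, ?_, hu1x, ?_, huu, hvv⟩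
  · rw [Category.assoc, pullback.condition, ← Category.assoc, hσ, Category.id_comp]
  · have h1 : (⟨⊥, Ideal.isPrime_bot⟩ : PrimeSpectrum R) = z := by
      rw [hzx]; exact PrimeSpectrum.ext hx.symm
    rw [h1]
    rw [Scheme.Hom.comp_apply, hz, ht1]

theorem smooth_smoothLocus' {X S : Scheme.{u}} (f : X ⟶ S) [LocallyOfFinitePresentation f] :
    Smooth (f.smoothLocus.ι ≫ f) := by
  rw [← Scheme.Hom.smoothLocus_eq_top_iff, ← Scheme.Hom.preimage_smoothLocus_eq]
  simp

/-- The ideal of a point of `Spec K[u,v]/(uv - c)` at which both coordinates vanish. -/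
theorem asIdeal_eq_of_mem {K : Type u} [Field K] {c : K} (x : Spec (CommRingCat.of (W K c)))
    (hu : uu K c ∈ x.asIdeal) (hv : vv K c ∈ x.asIdeal) : x.asIdeal = Ideal.span {uu K c, vv K c} := by
  have hle : Ideal.span {uu K c, vv K c} ≤ x.asIdeal := by
    rw [Ideal.span_le]
    rintro z (rfl | rfl)
    · exact hu
    · exact hv
  refine le_antisymm (fun w hw => ?_) hle
  obtain ⟨d, hd⟩ := exists_sub_mem w
  have h1 : algebraMap K (W K c) d ∈ x.asIdeal := by
    have := Ideal.sub_mem _ hw (hle hd)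
    rwa [sub_sub_cancel] at this
  have h2 : d = 0 := by
    by_contra h
    exact x.2.ne_top (Ideal.eq_top_of_isUnit_mem _ h1 ((IsUnit.mk0 d h).map _))
  rwa [h2, map_zero, sub_zero] at hd

/-- **The generic fibre of a nodal curve over a strictly henselian domain has split singularities.** -/
theorem main (hf : Curv2.IsNodalFamily f) [LocallyOfFinitePresentation f]
    (y : ↥(pullback f (Neron.genPt R))) :
    (∃ V : (pullback f (Neron.genPt R)).Opens, y ∈ V ∧ Smooth (V.ι ≫ pullback.snd f (Neron.genPt R))) ∨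
      @Curv2.IsOrdDoublePt (FractionRing R) _ ((pullback f (Neron.genPt R)).presheaf.stalk y) _
        (@Curv2.stalkAlgebra (FractionRing R) _ (pullback f (Neron.genPt R)) ⟨pullback.snd f (Neron.genPt R)⟩ y) _ := by
  by_cases hs : pullback.fst f (Neron.genPt R) y ∈ f.smoothLocus
  · left
    have hflat : Flat f := hf.1
    have h1 := Groth.Agent.S2155.result f (Neron.genPt R) (pullback.snd _ _) (pullback.fst _ _)
      (IsPullback.of_hasPullback _ _) (Or.inl hflat)
    refine ⟨(pullback.snd f (Neron.genPt R)).smoothLocus, ?_, smooth_smoothLocus' _⟩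
    rw [h1]; exact hs
  right
  let K := FractionRing R
  let φ : R →+* K := algebraMap R K
  let j : Spec (CommRingCat.of K) ⟶ Spec (CommRingCat.of R) := Neron.genPt R
  let i : pullback f j ⟶ C := pullback.fst f j
  let pK : pullback f j ⟶ Spec (CommRingCat.of K) := pullback.snd f j
  have hfx : (f (i y)).asIdeal = ⊥ := by
    rw [← Scheme.Hom.comp_apply, pullback.condition, Scheme.Hom.comp_apply]
    exact genPt_apply _
  obtain ⟨a, ha, U, e, he, g, hg, τ, u, hw, hτ, hu, hτu, huu, hvv⟩ := exists_local_section f hf (i y) hfx hs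
  obtain ⟨y3, hy3u, hy3⟩ := Scheme.Pullback.exists_preimage_pullback (f := e) (g := i) u y hu
  have hsq1 : IsPullback (pullback.fst e i) (pullback.snd e i ≫ pK) (e ≫ f) j :=
    (IsPullback.of_hasPullback e i).paste_vert (IsPullback.of_hasPullback f j)
  rw [← hw] at hsq1
  have hsq2 : IsPullback (Spec.map (CommRingCat.ofHom (mapW φ a)))
      (Spec.map (CommRingCat.ofHom (algebraMap K (W K (φ a)))))
      (Spec.map (CommRingCat.ofHom (algebraMap R (W R a)))) j :=
    (isPullback_SpecMap_of_isPushout _ _ _ _ (isPushout_W φ a)).flip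
  let gK : pullback e i ⟶ Spec (CommRingCat.of (W K (φ a))) :=
    hsq2.lift (pullback.fst e i ≫ g) (pullback.snd e i ≫ pK) (by rw [Category.assoc]; exact hsq1.w)
  have hgK1 : gK ≫ Spec.map (CommRingCat.ofHom (mapW φ a)) = pullback.fst e i ≫ g := hsq2.lift_fst _ _ _
  have hgK2 : gK ≫ Spec.map (CommRingCat.ofHom (algebraMap K (W K (φ a)))) = pullback.snd e i ≫ pK :=
    hsq2.lift_snd _ _ _
  have hsq3 : IsPullback (pullback.fst e i) gK g (Spec.map (CommRingCat.ofHom (mapW φ a))) := by
    refine IsPullback.of_bot ?_ hgK1.symm hsq2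
    rw [hgK2]; exact hsq1
  have hgKe : Etale gK := MorphismProperty.of_isPullback (P := @Etale) hsq3 hg
  have heK : Etale (pullback.snd e i) := inferInstance
  have hτf : τ ≫ g ≫ Spec.map (CommRingCat.ofHom (algebraMap R (W R a))) = 𝟙 _ := by
    rw [← Category.assoc, hτ]; exact zsS_str R ha
  let τK : Spec (CommRingCat.of K) ⟶ pullback e i := hsq1.lift (j ≫ τ) (𝟙 _) (by
    rw [Category.assoc, hτf, Category.comp_id, Category.id_comp])
  have hτK1 : τK ≫ pullback.fst e i = j ≫ τ := hsq1.lift_fst _ _ _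
  have hτK2 : τK ≫ pullback.snd e i ≫ pK = 𝟙 _ := hsq1.lift_snd _ _ _
  have hjp : IsPreimmersion j := IsPreimmersion.of_isLocalization (nonZeroDivisors R)
  have hpp : IsPreimmersion (pullback.fst e i) := MorphismProperty.of_isPullback (P := @IsPreimmersion) hsq1.flip hjp
  let p : Spec (CommRingCat.of K) := pK y
  have hτp : τK p = y3 := by
    apply (pullback.fst e i).isEmbedding.injective
    rw [← Scheme.Hom.comp_apply, hτK1, Scheme.Hom.comp_apply, hy3u, ← hτu]
    congr 1
    exact PrimeSpectrum.ext (genPt_apply p)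
  have hres := SplitOdp.exists_sub_mem_of_section (pullback.snd e i ≫ pK) τK hτK2 p y3 hτp
  have hideal : (gK y3).asIdeal = Ideal.span {uu K (φ a), vv K (φ a)} := by
    have h1 : Spec.map (CommRingCat.ofHom (mapW φ a)) (gK y3) = g u := by
      rw [← Scheme.Hom.comp_apply, hgK1, Scheme.Hom.comp_apply, hy3u]
    apply asIdeal_eq_of_mem
    · rw [← h1] at huu
      have h2 : mapW φ a (uu R a) ∈ (gK y3).asIdeal := huu
      simpa [mapW] using h2
    · rw [← h1] at hvv
      have h2 : mapW φ a (vv R a) ∈ (gK y3).asIdeal := hvv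
      simpa [mapW] using h2
  have h1 := (SplitOdp.key gK (pullback.snd e i ≫ pK) _ hgK2 y3 hres).1
    (SplitOdp.odp_origin (by rw [ha, map_zero]) (gK y3) hideal)
  have h2 := (SplitOdp.key (pullback.snd e i) (pullback.snd e i ≫ pK) pK rfl y3 hres).2 h1
  rw [hy3] at h2
  exact h2

end K486.SplitMain
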