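import Groth.Agent.SemiFact.K486.CrossOdp
import Groth.Agent.CurvesB.StalkSemilinear
import Groth.Agent.CurvesB.NodeEtale
import Groth.Agent.Models.NodeNodal

/-!
# Ordinary double points over a field and étale morphisms, rational points

Over an arbitrary field `K`: an étale `K`-morphism transports ordinary double points at `K`-rational points in both
directions, and the origin of `Spec K[u,v]/(uv)` is an ordinary double point.
-/

set_option autoImplicit false
universe u

open CategoryTheory CategoryTheory.Limits AlgebraicGeometry IsLocalRing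

namespace K486.SplitOdp

open Groth.Agent.CurvesB.StalkSemilinear Groth.Agent.CurvesB Groth.Agent.Models.NodeRing
  Groth.Agent.CurvesC.NodePow

variable {K : Type u} [Field K]

theorem stMap_id_surjective (x : Spec (CommRingCat.of K)) :
    Function.Surjective (stMap (𝟙 (Spec (CommRingCat.of K))) x) := by
  intro z
  have hid : 𝟙 (Spec (CommRingCat.of K)) = Spec.map (CommRingCat.ofHom (RingHom.id K)) :=
    (Spec.map_id _).symm
  let A := (Spec (CommRingCat.of K)).presheaf.stalk x
  let _ : Algebra K A := (StructureSheaf.toStalk K x).hom.toAlgebra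
  have hloc : IsLocalization.AtPrime A x.asIdeal :=
    inferInstanceAs (IsLocalization.AtPrime ((Spec.structureSheaf K).presheaf.stalk x) x.asIdeal)
  obtain ⟨a, s, h⟩ := IsLocalization.exists_mk'_eq x.asIdeal.primeCompl (show A from z)
  have hs : (s : K) ≠ 0 := by
    intro h0
    exact s.2 (by rw [h0]; exact x.asIdeal.zero_mem)
  refine ⟨a / s, ?_⟩
  have h1 : stMap (𝟙 (Spec (CommRingCat.of K))) x (a / s) = algebraMap K A (a / s) := by
    rw [hid, Groth.Agent.Models.NodeNodal.stMap_SpecMap]; rfl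
  rw [h1]
  refine Eq.trans ?_ h
  rw [eq_comm, IsLocalization.mk'_eq_iff_eq_mul, ← map_mul, div_mul_cancel₀ _ hs]

/-- At a point which is the image of a section the residue field is the ground field. -/
theorem exists_sub_mem_of_section {X : Scheme.{u}} (f : X ⟶ Spec (CommRingCat.of K))
    (t : Spec (CommRingCat.of K) ⟶ X) (ht : t ≫ f = 𝟙 _) (p : Spec (CommRingCat.of K)) (x : X) (hx : t p = x)
    (b : X.presheaf.stalk x) : ∃ c : K, b - stMap f x c ∈ maximalIdeal (X.presheaf.stalk x) := by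
  subst hx
  obtain ⟨c, hc⟩ := stMap_id_surjective p ((t.stalkMap p).hom b)
  refine ⟨c, ?_⟩
  have h1 : (t.stalkMap p).hom (stMap f (t p) c) = stMap (𝟙 _) p c :=
    stalkMap_stMap t (𝟙 _) f (RingHom.id K) (by
      rw [ht]; exact (Category.id_comp _).symm.trans (congrArg _ (Spec.map_id _).symm)) p c
  rw [mem_maximalIdeal, mem_nonunits_iff]
  intro hu
  have h2 := hu.map (t.stalkMap p).hom
  rw [map_sub, h1, hc, sub_self] at h2
  exact not_isUnit_zero h2

section Etale

variable {X Y : Scheme.{u}} (h : X ⟶ Y) [Etale h] (fX : X ⟶ Spec (CommRingCat.of K))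
  (fY : Y ⟶ Spec (CommRingCat.of K)) (w : h ≫ fY = fX) (x : X)

include w in
theorem key (hres : ∀ b : X.presheaf.stalk x, ∃ c : K, b - stMap fX x c ∈ maximalIdeal (X.presheaf.stalk x)) :
    @Curv2.IsOrdDoublePt K _ (Y.presheaf.stalk (h x)) _ (@Curv2.stalkAlgebra K _ Y ⟨fY⟩ (h x)) _ ↔
    @Curv2.IsOrdDoublePt K _ (X.presheaf.stalk x) _ (@Curv2.stalkAlgebra K _ X ⟨fX⟩ x) _ := by
  let iY : Y.Over (Spec (CommRingCat.of K)) := ⟨fY⟩
  let iX : X.Over (Spec (CommRingCat.of K)) := ⟨fX⟩
  let := Curv2.stalkAlgebra K Y (h x)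
  let := Curv2.stalkAlgebra K X x
  let : Algebra (Y.presheaf.stalk (h x)) (X.presheaf.stalk x) := (h.stalkMap x).hom.toAlgebra
  have : IsScalarTower K (Y.presheaf.stalk (h x)) (X.presheaf.stalk x) :=
    IsScalarTower.of_algebraMap_eq' (NodeEtale.stalkMap_comp_stalkMap K h w x).symm
  have : IsLocalHom (algebraMap (Y.presheaf.stalk (h x)) (X.presheaf.stalk x)) :=
    inferInstanceAs (IsLocalHom (h.stalkMap x).hom)
  have : Module.Flat (Y.presheaf.stalk (h x)) (X.presheaf.stalk x) := Flat.stalkMap h x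
  have : Algebra.FormallyUnramified (Y.presheaf.stalk (h x)) (X.presheaf.stalk x) :=
    FormallyUnramified.stalkMap h x
  have : Algebra.EssFiniteType (Y.presheaf.stalk (h x)) (X.presheaf.stalk x) :=
    LocallyOfFiniteType.stalkMap h x
  have hm := Algebra.FormallyUnramified.map_maximalIdeal (R := Y.presheaf.stalk (h x)) (S := X.presheaf.stalk x)
  obtain ⟨e, he⟩ := EtaleCompl.exists_completion_ringEquiv_of_flat hm (fun b => by
    obtain ⟨c, hc⟩ := hres b
    refine ⟨algebraMap K (Y.presheaf.stalk (h x)) c, ?_⟩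
    rw [← IsScalarTower.algebraMap_apply K (Y.presheaf.stalk (h x)) (X.presheaf.stalk x)]
    exact hc)
  exact OrdDouble.isOrdDoublePt_iff_of_completion e he

end Etale

/-- The origin of the two axes. -/
theorem odp_origin {c : K} (hc : c = 0) (x : Spec (CommRingCat.of (W K c)))
    (hx : x.asIdeal = Ideal.span {uu K c, vv K c}) :
    @Curv2.IsOrdDoublePt K _ ((Spec (CommRingCat.of (W K c))).presheaf.stalk x) _
      (@Curv2.stalkAlgebra K _ (Spec (CommRingCat.of (W K c)))
        ⟨Spec.map (CommRingCat.ofHom (algebraMap K (W K c)))⟩ x) _ := by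
  let i1 : (Spec (CommRingCat.of (W K c))).Over (Spec (CommRingCat.of K)) :=
    ⟨Spec.map (CommRingCat.ofHom (algebraMap K (W K c)))⟩
  let _ := Curv2.stalkAlgebra K (Spec (CommRingCat.of (W K c))) x
  let A := (Spec (CommRingCat.of (W K c))).presheaf.stalk x
  let _ : Algebra (W K c) A := (StructureSheaf.toStalk (W K c) x).hom.toAlgebra
  have hloc : IsLocalization.AtPrime A x.asIdeal :=
    inferInstanceAs (IsLocalization.AtPrime ((Spec.structureSheaf (W K c)).presheaf.stalk x) x.asIdeal)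
  have hK : ∀ d : K, algebraMap K A d = algebraMap (W K c) A (algebraMap K (W K c) d) := fun d =>
    Groth.Agent.Models.NodeNodal.stMap_SpecMap (algebraMap K (W K c)) x d
  have hmax : maximalIdeal A = Ideal.span {algebraMap (W K c) A (uu K c), algebraMap (W K c) A (vv K c)} := by
    rw [← IsLocalization.AtPrime.map_eq_maximalIdeal x.asIdeal A, hx, Ideal.map_span, Set.image_pair]
  have hxy : algebraMap (W K c) A (uu K c) * algebraMap (W K c) A (vv K c) = 0 := by
    rw [← map_mul, uu_mul_vv' hc, map_zero, map_zero]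
  have hwd : ∀ w : W K c, ∃ d : K, w - algebraMap K _ d ∈ x.asIdeal := fun w => by
    rw [hx]; exact exists_sub_mem w
  have hd0 : ∀ (w : W K c) (d : K), w - algebraMap K _ d ∈ x.asIdeal → w ∉ x.asIdeal → d ≠ 0 := by
    rintro w d h1 h2 rfl
    rw [map_zero, sub_zero] at h1
    exact h2 h1
  have hs : ∀ a : A, ∃ d : K, a - algebraMap K A d ∈ maximalIdeal A := by
    intro a
    obtain ⟨w, s, rfl⟩ := IsLocalization.exists_mk'_eq x.asIdeal.primeCompl a
    obtain ⟨d, hd⟩ := hwd w
    obtain ⟨e, he⟩ := hwd s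
    have he0 := hd0 _ _ he s.2
    refine ⟨d / e, ?_⟩
    have hu : IsUnit (algebraMap (W K c) A s) := IsLocalization.map_units A s
    rw [← Ideal.unit_mul_mem_iff_mem _ hu, mul_sub, IsLocalization.mk'_spec', hK, ← map_mul, ← map_sub,
      ← IsLocalization.AtPrime.map_eq_maximalIdeal x.asIdeal A]
    refine Ideal.mem_map_of_mem _ ?_
    have h1 : w - s * algebraMap K (W K c) (d / e) =
        (w - algebraMap K _ d) - (s - algebraMap K _ e) * algebraMap K (W K c) (d / e) := by
      rw [sub_mul, ← map_mul, mul_div_cancel₀ _ he0]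
      ring
    rw [h1]
    exact Ideal.sub_mem _ hd (Ideal.mul_mem_right _ _ he)
  let ψ0 : W K c →+* TT K := Groth.Agent.Models.NodeRing.lift (algebraMap K (TT K))
    (Ideal.Quotient.mk _ (MvPowerSeries.X 0)) (Ideal.Quotient.mk _ (MvPowerSeries.X 1))
    (by rw [CrossOdp.XY_eq, hc, map_zero])
  have hψ0u : ψ0 (uu K c) = Ideal.Quotient.mk _ (MvPowerSeries.X 0) := by simp [ψ0]
  have hψ0v : ψ0 (vv K c) = Ideal.Quotient.mk _ (MvPowerSeries.X 1) := by simp [ψ0]
  have hψ0K : ∀ d, ψ0 (algebraMap K (W K c) d) = algebraMap K (TT K) d := fun d => by simp [ψ0]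
  have hψ0m : ∀ w ∈ x.asIdeal, ψ0 w ∈ mT K := by
    intro w hw
    have h1 : x.asIdeal.map ψ0 ≤ mT K := by
      rw [hx, Ideal.map_span, Ideal.span_le, CrossOdp.mT_eq]
      rintro _ ⟨z, rfl | rfl, rfl⟩
      · exact Ideal.subset_span (Or.inl hψ0u)
      · exact Ideal.subset_span (Or.inr hψ0v)
    exact h1 (Ideal.mem_map_of_mem _ hw)
  have hunit : ∀ s : x.asIdeal.primeCompl, IsUnit (ψ0 s) := by
    intro s
    apply mT_unit
    intro hs'
    obtain ⟨e, he⟩ := hwd s
    have he0 := hd0 _ _ he s.2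
    have h1 := Ideal.sub_mem _ hs' (hψ0m _ he)
    rw [map_sub, sub_sub_cancel, hψ0K] at h1
    have h2 : (algebraMap K (TT K) e) ∉ mT K := by
      rw [Groth.Agent.CurvesC.NodeOdp.mT_iff, not_not]
      exact (IsUnit.mk0 _ he0).map _
    exact h2 h1
  let ψ1 : A →+* TT K := IsLocalization.lift (M := x.asIdeal.primeCompl) hunit
  have hψ1 : ∀ w, ψ1 (algebraMap (W K c) A w) = ψ0 w := fun w => IsLocalization.lift_eq hunit w
  let ψ : A →ₐ[K] TT K := { ψ1 with
    commutes' := fun d => by
      change ψ1 (algebraMap K A d) = _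
      rw [hK, hψ1, hψ0K] }
  exact CrossOdp.isOrdDoublePt_of_cross hxy hmax hs ψ ((hψ1 _).trans hψ0u) ((hψ1 _).trans hψ0v)

end K486.SplitOdp
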