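import Groth.Agent.SemiFact.K486.StrChart
import Groth.Agent.SemiFact.K486.SplitOdp
import Groth.Agent.S2155
import Groth.Agent.S2156
import Groth.Prelude.Def_Neron

/-!
# The generic fibre of a nodal curve over a strictly henselian domain has split singularities
-/

set_option autoImplicit false
universe u

open CategoryTheory CategoryTheory.Limits AlgebraicGeometry IsLocalRing

namespace K486.SplitGen

open Groth.Agent.CurvesB.StalkSemilinear Groth.Agent.Models.NodeRing Groth.Agent.Models.NodeNodal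

/-- Smoothness at a point descends along étale maps. -/
theorem mem_smoothLocus_of_etale {U Y S : Scheme.{u}} (e : U ⟶ Y) [Etale e] (q : Y ⟶ S)
    [LocallyOfFinitePresentation q] (u : U) (V : U.Opens) (hu : u ∈ V) (h : Smooth (V.ι ≫ e ≫ q)) :
    e u ∈ q.smoothLocus := by
  let O : Y.Opens := ⟨e '' (V : Set U), e.isOpenMap _ V.isOpen⟩
  have hr : Set.range (V.ι ≫ e) ⊆ Set.range O.ι := by
    rintro _ ⟨v, rfl⟩
    rw [Scheme.Opens.range_ι]
    exact ⟨v.1, v.2, rfl⟩
  let e' : (V : Scheme.{u}) ⟶ (O : Scheme.{u}) := IsOpenImmersion.lift O.ι (V.ι ≫ e) hr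
  have he' : e' ≫ O.ι = V.ι ≫ e := IsOpenImmersion.lift_fac _ _ _
  have h1 : Etale (e' ≫ O.ι) := by rw [he']; infer_instance
  have h2 : Etale e' := Etale.of_comp e' O.ι
  have h3 : Surjective e' := by
    constructor
    rintro ⟨_, v, hv, rfl⟩
    refine ⟨⟨v, hv⟩, ?_⟩
    apply O.ι.isOpenEmbedding.injective
    rw [← Scheme.Hom.comp_apply, he']
    rfl
  have h4 : Smooth (e' ≫ O.ι ≫ q) := by
    rw [← Category.assoc, he', Category.assoc]; exact h
  have h5 : Smooth (O.ι ≫ q) := Groth.Agent.S0115.result e' (O.ι ≫ q)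
  have h6 : O.ι ⁻¹ᵁ q.smoothLocus = ⊤ := by
    rw [Scheme.Hom.preimage_smoothLocus_eq, Scheme.Hom.smoothLocus_eq_top]
  have h7 : (⟨e u, u, hu, rfl⟩ : O) ∈ O.ι ⁻¹ᵁ q.smoothLocus := by rw [h6]; trivial
  exact h7

section Chart

variable {R : Type u} [CommRing R] {a : R} {X U : Scheme.{u}} (p : X ⟶ Spec (CommRingCat.of R))
  [LocallyOfFinitePresentation p] (e : U ⟶ X) [Etale e] (g : U ⟶ Spec (CommRingCat.of (W R a))) [Etale g]
  (hg : g ≫ Spec.map (CommRingCat.ofHom (algebraMap R (W R a))) = e ≫ p) (u : U)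

include hg in
theorem aux (V : (Spec (CommRingCat.of (W R a))).Opens) (hV : g u ∈ V)
    (hs : Smooth (V.ι ≫ Spec.map (CommRingCat.ofHom (algebraMap R (W R a))))) : e u ∈ p.smoothLocus := by
  refine mem_smoothLocus_of_etale e p u (g ⁻¹ᵁ V) hV ?_
  have h1 : (g ⁻¹ᵁ V).ι ≫ e ≫ p = (g ∣_ V) ≫ (V.ι ≫ Spec.map (CommRingCat.ofHom (algebraMap R (W R a)))) := by
    rw [← hg]
    simp only [← Category.assoc]
    rw [morphismRestrict_ι]
  rw [h1]
  infer_instance

include hg in
theorem uu_mem (h : e u ∉ p.smoothLocus) : uu R a ∈ (g u).asIdeal := by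
  by_contra hu
  obtain ⟨V, hV, hs⟩ := exists_smooth_uu R a (g u) hu
  exact h (aux p e g hg u V hV hs)

include hg in
theorem vv_mem (h : e u ∉ p.smoothLocus) : vv R a ∈ (g u).asIdeal := by
  by_contra hu
  obtain ⟨V, hV, hs⟩ := exists_smooth_vv R a (g u) hu
  exact h (aux p e g hg u V hV hs)

end Chart

section Zero

variable (R : Type u) [CommRing R] {a : R} (ha : a = 0)

/-- the zero section of `Spec R[u,v]/(uv)` -/
noncomputable def zs : W R a →+* R := lift (RingHom.id R) 0 0 (by rw [ha]; simp)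

theorem zs_algebraMap (r : R) : zs R ha (algebraMap R _ r) = r := by simp [zs]
theorem zs_uu : zs R ha (uu R a) = 0 := by simp [zs]
theorem zs_vv : zs R ha (vv R a) = 0 := by simp [zs]

theorem zs_mem_iff (P : Ideal (W R a)) (hu : uu R a ∈ P) (hv : vv R a ∈ P) (w : W R a) :
    algebraMap R _ (zs R ha w) ∈ P ↔ w ∈ P := by
  obtain ⟨d, hd⟩ := exists_sub_mem w
  have hle : Ideal.span {uu R a, vv R a} ≤ P := by
    rw [Ideal.span_le]
    rintro x (rfl | rfl)
    · exact hu
    · exact hv
  have hle2 : Ideal.span {uu R a, vv R a} ≤ RingHom.ker (zs R ha) := by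
    rw [Ideal.span_le]
    rintro x (rfl | rfl)
    · exact zs_uu R ha
    · exact zs_vv R ha
  have h1 : zs R ha w = d := by
    have := hle2 hd
    rw [RingHom.mem_ker, map_sub, zs_algebraMap, sub_eq_zero] at this
    exact this
  rw [h1]
  have h2 := hle hd
  constructor
  · intro h
    have := P.add_mem h2 h
    rwa [sub_add_cancel] at this
  · intro h
    have := P.sub_mem h h2
    rwa [sub_sub_cancel] at this

/-- the zero section as a morphism of schemes -/
noncomputable def zsS : Spec (CommRingCat.of R) ⟶ Spec (CommRingCat.of (W R a)) :=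
  Spec.map (CommRingCat.ofHom (zs R ha))

theorem zsS_str : zsS R ha ≫ Spec.map (CommRingCat.ofHom (algebraMap R (W R a))) = 𝟙 _ := by
  rw [zsS, ← Spec.map_comp, ← CommRingCat.ofHom_comp]
  have : (zs R ha).comp (algebraMap R (W R a)) = RingHom.id R := RingHom.ext (zs_algebraMap R ha)
  rw [this]
  exact Spec.map_id _

theorem zsS_closedImmersion : IsClosedImmersion (zsS R ha) :=
  IsClosedImmersion.spec_of_surjective _ (fun r => ⟨algebraMap R _ r, zs_algebraMap R ha r⟩)

theorem zsS_apply (P : Spec (CommRingCat.of (W R a))) (hu : uu R a ∈ P.asIdeal) (hv : vv R a ∈ P.asIdeal) :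
    zsS R ha (Spec.map (CommRingCat.ofHom (algebraMap R (W R a))) P) = P := by
  apply PrimeSpectrum.ext
  ext w
  exact zs_mem_iff R ha P.asIdeal hu hv w

end Zero

end K486.SplitGen
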