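import Groth.Prelude.Def_CurvBase
import Groth.Agent.CurvesB.EtaleCompl
import Groth.Agent.CurvesC.NodeOdp
import Groth.Agent.Ega41.MvPS
import Groth.Agent.Ega41.LiftKill

/-!
# The crossing of two lines is a (split) ordinary double point

A local `K`-algebra `A` with residue field `K`, whose maximal ideal is generated by `x, y` with `x y = 0`, and with a
`K`-homomorphism to `K[[X,Y]]/(XY)` taking `x, y` to `X, Y`, is an ordinary double point over `K`.
-/

set_option autoImplicit false
universe u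

open IsLocalRing

namespace K486.CrossOdp

open Groth.Agent.CurvesC.NodePow Groth.Agent.CurvesC.NodeOdp

variable {K : Type u} [Field K]

theorem span_pair_pow {B : Type*} [CommRing B] {x y : B} (h : x * y = 0) (n : ℕ) :
    Ideal.span {x, y} ^ (n + 1) = Ideal.span {x ^ (n + 1), y ^ (n + 1)} := by
  induction n with
  | zero => simp
  | succ n ih =>
    rw [pow_succ, ih, Ideal.span_pair_mul_span_pair]
    have h1 : x ^ (n + 1) * y = 0 := by rw [pow_succ, mul_assoc, h, mul_zero]
    have h2 : y ^ (n + 1) * x = 0 := by rw [pow_succ, mul_assoc, mul_comm y x, h, mul_zero]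
    rw [h1, h2, ← pow_succ, ← pow_succ]
    apply le_antisymm
    · rw [Ideal.span_le]
      rintro _ (rfl | rfl | rfl | rfl)
      · exact Ideal.subset_span (by simp)
      · exact Ideal.zero_mem _
      · exact Ideal.zero_mem _
      · exact Ideal.subset_span (by simp)
    · rw [Ideal.span_le]
      rintro _ (rfl | rfl)
      · exact Ideal.subset_span (by simp)
      · exact Ideal.subset_span (by simp)

theorem exists_coeff {B : Type*} [CommRing B] [Algebra K B] (m : Ideal B) {x y : B} (h : x * y = 0)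
    (hm : m = Ideal.span {x, y}) (hs : ∀ b : B, ∃ c : K, b - algebraMap K B c ∈ m) (n : ℕ) (b : B)
    (hb : b ∈ m ^ (n + 1)) :
    ∃ c c' : K, b - (algebraMap K B c * x ^ (n + 1) + algebraMap K B c' * y ^ (n + 1)) ∈ m ^ (n + 2) := by
  have hx : x ∈ m := hm ▸ Ideal.subset_span (by simp)
  have hy : y ∈ m := hm ▸ Ideal.subset_span (by simp)
  rw [hm, span_pair_pow h] at hb
  obtain ⟨r, s, rfl⟩ := Ideal.mem_span_pair.1 hb
  obtain ⟨c, hc⟩ := hs r
  obtain ⟨c', hc'⟩ := hs s
  refine ⟨c, c', ?_⟩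
  have h1 : r * x ^ (n + 1) + s * y ^ (n + 1) -
      (algebraMap K B c * x ^ (n + 1) + algebraMap K B c' * y ^ (n + 1)) =
      (r - algebraMap K B c) * x ^ (n + 1) + (s - algebraMap K B c') * y ^ (n + 1) := by ring
  rw [h1, show n + 2 = 1 + (n + 1) by ring, pow_add m 1 (n + 1), pow_one]
  exact Ideal.add_mem _ (Ideal.mul_mem_mul hc (Ideal.pow_mem_pow hx _)) (Ideal.mul_mem_mul hc' (Ideal.pow_mem_pow hy _))

theorem nontrivial_TT : Nontrivial (TT K) := (resT K).toRingHom.domain_nontrivial

theorem isLocalRing_TT : IsLocalRing (TT K) :=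
  have := nontrivial_TT (K := K)
  IsLocalRing.of_surjective' (Ideal.Quotient.mk _) Ideal.Quotient.mk_surjective

theorem maximalIdeal_TT [IsLocalRing (TT K)] : maximalIdeal (TT K) = mT K := by
  ext t
  rw [mT_iff, mem_maximalIdeal, mem_nonunits_iff]

theorem mT_eq : mT K = Ideal.span {(Ideal.Quotient.mk _ (MvPowerSeries.X 0) : TT K),
    (Ideal.Quotient.mk _ (MvPowerSeries.X 1) : TT K)} := by
  rw [mT, I2, Ideal.map_span]
  congr 1
  ext z
  simp [eq_comm]

theorem XY_eq : (Ideal.Quotient.mk _ (MvPowerSeries.X 0) : TT K) * Ideal.Quotient.mk _ (MvPowerSeries.X 1) = 0 := by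
  rw [← map_mul]
  exact Ideal.Quotient.eq_zero_iff_mem.2 (Ideal.mem_span_singleton_self _)

theorem mT_pow_one : mT K ^ 1 = mT K := pow_one (mT K)

theorem mem_mT_pow_zero (t : TT K) : t ∈ mT K ^ 0 := by
  have h : mT K ^ 0 = ⊤ := (pow_zero (mT K)).trans Ideal.one_eq_top
  rw [h]; trivial

theorem res_TT (t : TT K) : ∃ c : K, t - algebraMap K (TT K) c ∈ mT K := by
  refine ⟨resT K t, ?_⟩
  rw [← resT_eq_zero_iff, map_sub, AlgHom.commutes]
  simp

variable {A : Type u} [CommRing A] [IsLocalRing A] [Algebra K A]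

section

variable {x y : A} (hxy : x * y = 0) (hmax : maximalIdeal A = Ideal.span {x, y})
  (hs : ∀ a : A, ∃ c : K, a - algebraMap K A c ∈ maximalIdeal A) (ψ : A →ₐ[K] TT K)
  (hψx : ψ x = Ideal.Quotient.mk _ (MvPowerSeries.X 0)) (hψy : ψ y = Ideal.Quotient.mk _ (MvPowerSeries.X 1))

include hmax hψx hψy in
theorem map_mem (n : ℕ) {a : A} (ha : a ∈ maximalIdeal A ^ n) : ψ a ∈ mT K ^ n := by
  have h1 : (maximalIdeal A).map ψ.toRingHom ≤ mT K := by
    rw [hmax, Ideal.map_span, Ideal.span_le, mT_eq]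
    rintro _ ⟨z, rfl | rfl, rfl⟩
    · exact Ideal.subset_span (Or.inl hψx)
    · exact Ideal.subset_span (Or.inr hψy)
  have h2 : ((maximalIdeal A) ^ n).map ψ.toRingHom ≤ mT K ^ n := by
    rw [Ideal.map_pow]; exact Ideal.pow_right_mono h1 n
  exact h2 (Ideal.mem_map_of_mem _ ha)

include hxy hmax hs hψx hψy in
theorem mem_of_map_mem (n : ℕ) (a : A) (ha : ψ a ∈ mT K ^ n) : a ∈ maximalIdeal A ^ n := by
  induction n with
  | zero => simp
  | succ n ih =>
    rcases n with _ | n
    · rw [zero_add, mT_pow_one] at ha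
      rw [zero_add, pow_one]
      obtain ⟨c, hc⟩ := hs a
      have h1 : ψ (a - algebraMap K A c) ∈ mT K := by
        have h0 := map_mem hmax ψ hψx hψy 1 (by simpa using hc)
        rwa [mT_pow_one] at h0
      have h2 : algebraMap K (TT K) c ∈ mT K := by
        have h3 := Ideal.sub_mem _ ha h1
        rwa [map_sub, sub_sub_cancel, AlgHom.commutes] at h3
      have h3 : c = 0 := by
        rw [← resT_eq_zero_iff, AlgHom.commutes] at h2
        exact h2
      rw [h3, map_zero, sub_zero] at hc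
      exact hc
    · have h1 := ih (Ideal.pow_le_pow_right (Nat.le_succ _) ha)
      obtain ⟨c, c', hc⟩ := exists_coeff (K := K) (maximalIdeal A) hxy hmax hs n a h1
      have h2 := map_mem hmax ψ hψx hψy _ hc
      have h3 := Ideal.sub_mem _ ha h2
      rw [map_sub, sub_sub_cancel, map_add, map_mul, map_mul, map_pow, map_pow, AlgHom.commutes, AlgHom.commutes,
        hψx, hψy] at h3
      obtain ⟨rfl, rfl⟩ := mT_indep (n + 1) c c' (by omega) h3
      simpa using hc

include hψx hψy in
theorem exists_approx' (n : ℕ) (t : TT K) : ∃ a : A, t - ψ a ∈ mT K ^ n := by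
  induction n with
  | zero => exact ⟨0, mem_mT_pow_zero _⟩
  | succ n ih =>
    rcases n with _ | n
    · obtain ⟨c, hc⟩ := res_TT t
      refine ⟨algebraMap K A c, ?_⟩
      rw [AlgHom.commutes, zero_add, mT_pow_one]
      exact hc
    · obtain ⟨a, ha⟩ := ih
      obtain ⟨c, c', hc⟩ := exists_coeff (K := K) (mT K) XY_eq mT_eq res_TT n _ ha
      refine ⟨a + (algebraMap K A c * x ^ (n + 1) + algebraMap K A c' * y ^ (n + 1)), ?_⟩
      rw [map_add, map_add, map_mul, map_mul, map_pow, map_pow, AlgHom.commutes, AlgHom.commutes, hψx, hψy,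
        ← sub_sub]
      exact hc

include hxy hmax hs hψx hψy in
/-- **Main lemma.** -/
theorem isOrdDoublePt_of_cross : Curv2.IsOrdDoublePt K A := by
  have hl := isLocalRing_TT (K := K)
  have h1 : maximalIdeal A ≤ (mT K).comap ψ.toRingHom := by
    intro a ha
    rw [Ideal.mem_comap]
    have := map_mem hmax ψ hψx hψy 1 (by simpa using ha)
    rwa [mT_pow_one] at this
  obtain ⟨e, he⟩ := Groth.Agent.CurvesB.EtaleCompl.exists_completion_ringEquiv ψ.toRingHom (maximalIdeal A) (mT K) h1
    (fun n a ha => mem_of_map_mem hxy hmax hs ψ hψx hψy n a ha)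
    (fun n t => exists_approx' ψ hψx hψy n t)
  have hc : IsAdicComplete (maximalIdeal (MvPowerSeries (Fin 2) K)) (MvPowerSeries (Fin 2) K) :=
    Groth.Agent.Ega41.MvPS.isAdicComplete_maximalIdeal K
  have hc2 : IsAdicComplete (maximalIdeal (TT K)) (TT K) :=
    Groth.Agent.Ega41.LiftKill.isAdicComplete_quotient _ _
  rw [maximalIdeal_TT] at hc2
  let e2 : TT K ≃+* AdicCompletion (mT K) (TT K) :=
    RingEquiv.ofBijective (algebraMap (TT K) (AdicCompletion (mT K) (TT K))) (AdicCompletion.of_bijective _ _)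
  refine ⟨e.trans e2.symm, fun c => ?_⟩
  rw [RingEquiv.trans_apply, he, RingEquiv.symm_apply_eq]
  have h2 : ψ.toRingHom (algebraMap K A c) = Ideal.Quotient.mk _ (MvPowerSeries.C c) := ψ.commutes c
  rw [h2]
  rfl

end

end K486.CrossOdp
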