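import Groth.Agent.S1637
import Groth.Agent.Models.NodeNodal
import Groth.Agent.Hensel.K140.CoupleSec
import Groth.Agent.Dix.NeronEllPts
import Groth.Agent.S0115
import Mathlib.AlgebraicGeometry.Morphisms.QuasiFinite

/-!
# Étale charts of nodal families over a strictly henselian base

Over a strictly henselian local ring `R` a nodal family `p : X ⟶ Spec R` has, at every node `x` of the closed fibre, an
étale neighbourhood which is étale over `Spec R[u,v]/(uv - a)` for some `a ∈ R` (no extension of the base is needed).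
-/

set_option autoImplicit false
universe u

open CategoryTheory CategoryTheory.Limits AlgebraicGeometry IsLocalRing

namespace K486.StrChart

open Groth.Agent.Models.NodeRing Groth.Agent.Models.NodeNodal Groth.Agent.Models

lemma locallyQuasiFinite_of_etale {X Y : Scheme.{u}} (f : X ⟶ Y) [AlgebraicGeometry.Etale f] :
    LocallyQuasiFinite f where
  quasiFinite_appLE := by
    intro U hU V hV e
    have h1 : (f.appLE U V e).hom.Etale := f.etale_appLE hU hV e
    algebraize [(f.appLE U V e).hom]
    exact inferInstanceAs (Algebra.QuasiFinite _ _)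

/-- étale morphisms to a strictly henselian local scheme have a section through every point of the closed fibre -/
theorem exists_section {R : Type u} [CommRing R] [IsLocalRing R] (hR : EtCoh.IsStrictlyHenselianLocalRing R)
    {V : Scheme.{u}} (f : V ⟶ Spec (CommRingCat.of R)) [Etale f] (v : V) (hv : f v = closedPoint R) :
    ∃ s : Spec (CommRingCat.of R) ⟶ V, s ≫ f = 𝟙 _ ∧ s (closedPoint R) = v := by
  have hlqf := locallyQuasiFinite_of_etale f
  obtain ⟨O, hO, hvO⟩ := isDiscrete_iff_forall_mem_exists_isOpen.1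
    (f.isDiscrete_preimage_singleton (f v)) v rfl
  have hvO' : v ∈ O := by
    have : v ∈ O ∩ (f ⁻¹' {f v}) := by rw [hvO]; rfl
    exact this.1
  obtain ⟨s, hs, hsO⟩ := Groth.Agent.Dix.NeronEllPts.exists_section hR f v hv O hO hvO'
  refine ⟨s, hs, ?_⟩
  have h1 : s (closedPoint R) ∈ O ∩ (f ⁻¹' {f v}) := by
    refine ⟨hsO, ?_⟩
    change (s ≫ f) (closedPoint R) = f v
    rw [hs, hv]; rfl
  rw [hvO] at h1
  exact h1

/-- An étale chart at a node over a strictly henselian base. -/
theorem exists_chart {R : Type u} [CommRing R] [IsLocalRing R] (hR : EtCoh.IsStrictlyHenselianLocalRing R)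
    {X : Scheme.{u}} (p : X ⟶ Spec (CommRingCat.of R)) (hp : Curv2.IsNodalFamily p) (x : X)
    (hx : p x = closedPoint R)
    (hxn : @Curv2.IsNode ((Spec (CommRingCat.of R)).residueField (p.base x)) _ (p.fiber (p.base x))
      ⟨p.fiberToSpecResidueField (p.base x)⟩ (p.asFiber x)) :
    ∃ (a : R) (U : Scheme.{u}) (e : U ⟶ X) (_ : Etale e) (y : U) (_ : e y = x)
      (g : U ⟶ Spec (CommRingCat.of (W R a))) (_ : Etale g),
      g ≫ Spec.map (CommRingCat.ofHom (algebraMap R (W R a))) = e ≫ p := by
  obtain ⟨U, V, W', gU, gV, p', e, q, h, r, hgU, hgV, he, hcomm, heq, hpb, x1, hx1⟩ :=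
    Groth.Agent.S1637.result p hp x hxn
  have hv : gV (p' x1) = (closedPoint R : PrimeSpectrum R) := by
    rw [← hx, ← hx1]
    change (p' ≫ gV) x1 = (gU ≫ p) x1
    rw [hcomm]
  obtain ⟨s, hs, hsv⟩ := exists_section hR gV (p' x1) hv
  have hsO : IsOpenImmersion s := K140.CoupleSec.isOpenImmersion_section gV s hs
  let χ : CommRingCat.of (MvPolynomial (Fin 1) (ULift.{u} ℤ)) ⟶ CommRingCat.of R :=
    Spec.preimage (s ≫ h)
  have hχ : Spec.map χ = s ≫ h := Spec.map_preimage _
  set c : R := χ.hom (MvPolynomial.X 0) with hc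
  have hpb0 := NodePushout.isPullback_node χ.hom 1 c (by simp [hc])
  set θ := Spec.map (CommRingCat.ofHom (NodePushout.theta (1 : Rˣ) c)) with hθ
  set t := Spec.map (CommRingCat.ofHom (NodePushout.iota (MvPolynomial.C c))) with ht
  have hpb' : IsPullback θ t (Spec.map (CommRingCat.ofHom NodePushout.phi.{u})) (s ≫ h) := by
    rw [← hχ]; exact hpb0
  let w := hpb.lift θ (t ≫ s) (by rw [Category.assoc]; exact hpb'.w)
  have hw1 : w ≫ r = θ := hpb.lift_fst _ _ _
  have hw2 : w ≫ q = t ≫ s := hpb.lift_snd _ _ _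
  have hpb2 : IsPullback w t q s := by
    have hout : IsPullback (w ≫ r) t (Spec.map (CommRingCat.ofHom NodePushout.phi.{u})) (s ≫ h) := by
      rw [hw1]; exact hpb'
    exact IsPullback.of_right hout hw2 hpb
  have hwo : IsOpenImmersion w := MorphismProperty.of_isPullback (P := @IsOpenImmersion) hpb2.flip hsO
  have hew : e x1 ∈ Set.range w := by
    have h5 : q (e x1) = s (closedPoint R) := by
      rw [hsv, ← heq]; rfl
    obtain ⟨z, hz1, hz2⟩ := Scheme.Pullback.exists_preimage_pullback (f := q) (g := s) (e x1) _ h5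
    refine ⟨hpb2.isoPullback.inv z, ?_⟩
    change (hpb2.isoPullback.inv ≫ w) z = _
    rw [hpb2.isoPullback_inv_fst]
    exact hz1
  obtain ⟨y, hy⟩ := hew
  obtain ⟨x2, hx2, -⟩ := Scheme.Pullback.exists_preimage_pullback (f := e) (g := w) x1 y hy.symm
  have hst : Etale (pullback.snd e w) := MorphismProperty.pullback_snd e w he
  have hfs : Etale (pullback.fst e w ≫ gU) := inferInstance
  refine ⟨c, pullback e w, pullback.fst e w ≫ gU, hfs, x2, ?_, pullback.snd e w, hst, ?_⟩
  · rw [Scheme.Hom.comp_apply, hx2, hx1]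
  · have h1 : pullback.fst e w ≫ e ≫ q = pullback.snd e w ≫ t ≫ s := by
      rw [← hw2, ← Category.assoc, pullback.condition, Category.assoc]
    have h2 : pullback.snd e w ≫ t = pullback.snd e w ≫ t ≫ s ≫ gV := by
      rw [hs, Category.comp_id]
    change pullback.snd e w ≫ t = _
    rw [h2, Category.assoc, hcomm, ← heq]
    simp only [← Category.assoc] at h1 ⊢
    rw [h1]

end K486.StrChart
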